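import Groth.Agent.SiteBase.DLim.Acyclic
import Groth.Prelude.Def_DCoh2

/-!
# Derived limits of systems of sheaves
-/

set_option autoImplicit false

universe u

open CategoryTheory CategoryTheory.Limits Opposite Pretriangulated Abelian DerivedCategory

namespace Groth.Agent.DLim

open Groth.Agent.SiteBase

variable {C : Type u} [SmallCategory C] {J : GrothendieckTopology C}
  [HasDerivedCategory.{u} (Sheaf J AddCommGrpCat.{u})]

local notation "Ab" => Sheaf J AddCommGrpCat
local notation "H" => DerivedCategory.homologyFunctor (Sheaf J AddCommGrpCat)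

lemma subsingleton_HU_of_isZero {G : Sheaf J AddCommGrpCat.{u}} (hG : IsZero G) (k : ℕ) (U : C) :
    Subsingleton (CohSite.HU G k U) :=
  ⟨fun (x y : Ext (CohCx.freeSheaf J U) G k) => by
    show @Eq (Ext (CohCx.freeSheaf J U) G k) x y
    have h : ∀ z : Ext (CohCx.freeSheaf J U) G k, z = 0 := fun z => by
      rw [← Ext.comp_mk₀_id z, show 𝟙 G = 0 from hG.eq_of_src _ _, Ext.mk₀_zero, Ext.comp_zero]
    rw [h x, h y]⟩

lemma isZero_HD_single (G : Sheaf J AddCommGrpCat.{u}) {q : ℤ} (hq : q ≠ 0) :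
    IsZero (CohCx.HD ((singleFunctor (Sheaf J AddCommGrpCat.{u}) 0).obj G) q) := by
  rcases lt_or_gt_of_ne hq with h | h
  · exact isZero_of_isGE _ 0 q h
  · exact isZero_of_isLE _ 0 q h

theorem isRlim_single (F : ℕ → Sheaf J AddCommGrpCat.{u}) (t : ∀ n, F (n + 1) ⟶ F n)
    [HasProduct fun n => (singleFunctor (Sheaf J AddCommGrpCat.{u}) 0).obj (F n)]
    {B : Set C} (hB : IsCoveredBy J B)
    (h1 : ∀ U ∈ B, ∀ (p n : ℕ), Subsingleton (CohSite.HU (F n) (p + 1) U))
    (h2 : ∀ U ∈ B, CohCx.LimOneIsZero (fun n => (F n).obj.obj (op U))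
      (fun n => ((t n).hom.app (op U)).hom)) :
    DCoh.IsRlim (fun n => (singleFunctor _ 0).obj (F n))
      (fun n => (singleFunctor _ 0).map (t n))
      ((singleFunctor _ 0).obj (limit (CohCx.opSequence F t))) ∧
    ∀ U ∈ B, ∀ p : ℕ, Subsingleton (CohSite.HU (limit (CohCx.opSequence F t)) (p + 1) U) := by
  let Φ := singleFunctor (Sheaf J AddCommGrpCat.{u}) 0
  let K : ℕ → DerivedCategory (Sheaf J AddCommGrpCat.{u}) := fun n => Φ.obj (F n)
  let tK : ∀ n, K (n + 1) ⟶ K n := fun n => Φ.map (t n)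
  let eH := singleFunctorCompHomologyFunctorIso (Sheaf J AddCommGrpCat.{u}) 0
  have H1 : ∀ U ∈ B, ∀ (p : ℕ) (q : ℤ) (n : ℕ),
      Subsingleton (CohSite.HU (CohCx.HD (K n) q) (p + 1) U) := fun U hU p q n => by
    by_cases hq : q = 0
    · subst hq
      exact subsingleton_of_ext_iso (eH.app (F n)).symm (h1 U hU p n)
    · exact subsingleton_HU_of_isZero (isZero_HD_single (F n) hq) _ U
  have H2 : ∀ U ∈ B, ∀ (q : ℤ), CohCx.LimOneIsZero (fun n => (CohCx.HD (K n) q).obj.obj (op U))
      (fun n => (((H q).map (tK n)).hom.app (op U)).hom) := fun U hU q b => by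
    by_cases hq : q = 0
    · subst hq
      have hi : ∀ n, Function.Bijective ((eH.app (F n)).hom.hom.app (op U)).hom :=
        fun n => sections_bijective_of_isIso _ U
      obtain ⟨w, hw⟩ := h2 U hU fun n => ((eH.app (F n)).hom.hom.app (op U)).hom (b n)
      choose v hv using fun n => (hi n).2 (w n)
      refine ⟨v, funext fun n => (hi n).1 ?_⟩
      have e := congrArg (fun f => (f.hom.app (op U)).hom (v (n + 1))) (eH.hom.naturality (t n))
      refine (map_sub ((eH.app (F n)).hom.hom.app (op U)).hom _ _).trans ?_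
      refine Eq.trans ?_ (congrFun hw n)
      show _ = w n - ((t n).hom.app (op U)).hom (w (n + 1))
      rw [← hv n, ← hv (n + 1)]
      exact congrArg (_ - ·) e
    · have := fun n => subsingleton_sections_of_isZero (isZero_HD_single (F n) hq) U
      exact ⟨fun _ => 0, funext fun n => @Subsingleton.elim _ (this n) _ _⟩
  let d : ∏ᶜ K ⟶ ∏ᶜ K := Pi.lift fun n => Pi.π K n - Pi.π K (n + 1) ≫ tK n
  obtain ⟨L, p, δ, hT⟩ := distinguished_cocone_triangle₁ d
  let a : ∀ n, L ⟶ K n := fun n => p ≫ Pi.π K n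
  have hp : Pi.lift a = p := Pi.hom_ext _ _ fun n => Pi.lift_π _ _
  have hL : CohCx.IsRlimVia K tK L a := ⟨δ, by rw [hp]; exact hT⟩
  have hlim := nonempty_iso_limit hL hB H1 H2
  have hzero : ∀ q : ℤ, q ≠ 0 → IsZero (CohCx.HD L q) := fun q hq => by
    obtain ⟨e⟩ := hlim q
    refine IsZero.of_iso ((IsZero.iff_id_eq_zero _).2 (limit.hom_ext fun n => ?_)) e
    exact (isZero_HD_single (F n.unop) hq).eq_of_tgt _ _
  have : L.IsGE 0 := (isGE_iff _ _).2 fun i hi => hzero i (by omega)
  have : L.IsLE 0 := (isLE_iff _ _).2 fun i hi => hzero i (by omega)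
  obtain ⟨G, ⟨eL⟩⟩ := exists_iso_singleFunctor_obj_of_isGE_of_isLE L 0
  obtain ⟨e0⟩ := hlim 0
  let D := CohCx.opSequence (fun n => CohCx.HD (K n) 0) (fun n => (H 0).map (tK n))
  let D' := CohCx.opSequence F t
  let η : D ⟶ D' := NatTrans.ofOpSequence (fun n => (eH.app (F n)).hom) (fun n =>
    (congrArg (· ≫ _) (Functor.ofOpSequence_map_homOfLE_succ
      (X := fun n => CohCx.HD (K n) 0) (fun n => (H 0).map (tK n)) n)).trans
    ((eH.hom.naturality (t n)).trans
      (congrArg (_ ≫ ·) (Functor.ofOpSequence_map_homOfLE_succ (X := F) t n).symm)))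
  have : ∀ n, IsIso (η.app n) := fun n => inferInstanceAs (IsIso (eH.app (F n.unop)).hom)
  have : IsIso η := NatIso.isIso_of_isIso_app _
  let eG : G ≅ limit D' := (eH.app G).symm ≪≫ (H 0).mapIso eL.symm ≪≫ e0 ≪≫
    HasLimit.isoOfNatIso (asIso η)
  let eS : Φ.obj (limit D') ≅ L := Φ.mapIso eG.symm ≪≫ eL.symm
  refine ⟨⟨eS.hom ≫ p, δ ≫ eS.inv⟦(1 : ℤ)⟧', isomorphic_distinguished _ hT _
    (Triangle.isoMk _ _ eS (Iso.refl _) (Iso.refl _) ?a ?b ?c)⟩, fun U hU k => ?d⟩
  case a => exact Category.comp_id _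
  case b => exact (Category.comp_id _).trans (Category.id_comp _).symm
  case c =>
    refine (Category.assoc _ _ _).trans (Eq.trans ?_ (Category.id_comp δ).symm)
    refine (congrArg (δ ≫ ·) ?_).trans (Category.comp_id δ)
    exact (Functor.map_comp _ _ _).symm.trans
      ((congrArg _ eS.inv_hom_id).trans (CategoryTheory.Functor.map_id _ _))
  case d =>
    have hb := fun n j => cls_bijective (K n) hB (fun V hV p q => H1 V hV p q n) hU j
    have hL0 : Subsingleton (CohCx.HDU L ((k + 1 : ℕ) : ℤ) U) := by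
      refine subsingleton_of_forall_eq 0 fun y => ?_
      refine rlim_eq_zero hL _ (fun b => ?_) y fun n => (hb n _).1 ?_
      · obtain ⟨w, hw⟩ := H2 U hU _ fun n => cls (K n) _ U (b n)
        choose v hv using fun n => (hb n _).2 (w n)
        refine ⟨v, fun n => (hb n _).1 ?_⟩
        rw [map_sub, cls_comp, hv, hv]
        exact congrFun hw n
      · exact @Subsingleton.elim _ (subsingleton_sections_of_isZero
          (isZero_HD_single (F n) (by omega)) U) _ _
    refine (Ext.homEquiv (X := CohCx.freeSheaf J U) (Y := limit D') (n := k + 1)).subsingleton_congr.2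
      ⟨fun x y => (cancel_mono (eS.hom⟦((k + 1 : ℕ) : ℤ)⟧')).1 (@Subsingleton.elim _ hL0 _ _)⟩

end Groth.Agent.DLim
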