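import Groth.Agent.SiteBase.DLim.Basic
import Groth.Agent.H9Misc.TFactor
import Mathlib.Algebra.Homology.DerivedCategory.Ext.Basic

/-!
# Hypercohomology and truncations
-/

set_option autoImplicit false

universe u

open CategoryTheory CategoryTheory.Limits Opposite Pretriangulated Abelian DerivedCategory

namespace Groth.Agent.DLim

open Groth.Agent.SiteBase Groth.Agent.HDUSheafify

variable {C : Type u} [SmallCategory C] {J : GrothendieckTopology C}

section Sections

lemma subsingleton_sections_of_isZero {G : Sheaf J AddCommGrpCat.{u}} (hG : IsZero G) (U : C) :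
    Subsingleton (G.obj.obj (op U)) :=
  (secEquiv J U G).toEquiv.symm.subsingleton_congr.2 ⟨fun _ _ => hG.eq_of_tgt _ _⟩

lemma sections_bijective_of_isIso {G G' : Sheaf J AddCommGrpCat.{u}} (g : G ⟶ G') [IsIso g] (U : C) :
    Function.Bijective (g.hom.app (op U)).hom := by
  have : IsIso (g.hom.app (op U)) :=
    inferInstanceAs (IsIso (((sheafToPresheaf J AddCommGrpCat.{u}).map g).app (op U)))
  exact ConcreteCategory.bijective_of_isIso (g.hom.app (op U))

lemma subsingleton_of_ext_iso {k : ℕ} {G G' : Sheaf J AddCommGrpCat.{u}} {U : C} (e : G ≅ G')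
    (h : Subsingleton (CohSite.HU G k U)) : Subsingleton (CohSite.HU G' k U) :=
  ⟨fun (x y : Ext (CohCx.freeSheaf J U) G' k) => by
    show @Eq (Ext (CohCx.freeSheaf J U) G' k) x y
    have hxy : x.comp (Ext.mk₀ e.inv) (add_zero k) = y.comp (Ext.mk₀ e.inv) (add_zero k) :=
      @Subsingleton.elim _ h _ _
    have h1 := congrArg (fun z => Ext.comp z (Ext.mk₀ e.hom) (add_zero k)) hxy
    simpa using h1⟩

end Sections

variable [HasDerivedCategory.{u} (Sheaf J AddCommGrpCat.{u})]

local notation "𝓓" => DerivedCategory (Sheaf J AddCommGrpCat)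
local notation "tS" => (DerivedCategory.TStructure.t (C := Sheaf J AddCommGrpCat))
local notation "H" => DerivedCategory.homologyFunctor (Sheaf J AddCommGrpCat)

lemma hom_to_shift_eq_zero_of_isGE (X : DerivedCategory (Sheaf J AddCommGrpCat.{u})) (a m : ℤ)
    [X.IsGE a] (h : m < a) {F : Sheaf J AddCommGrpCat.{u}}
    (φ : (singleFunctor (Sheaf J AddCommGrpCat.{u}) 0).obj F ⟶ X⟦m⟧) : φ = 0 := by
  have : (X⟦m⟧).IsGE (a - m) := (tS).isGE_shift X a m (a - m) (by omega)
  exact (tS).zero φ 0 (a - m) (by omega)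

lemma subsingleton_HDU_of_isGE (X : DerivedCategory (Sheaf J AddCommGrpCat.{u})) (a m : ℤ)
    [X.IsGE a] (h : m < a) (U : C) : Subsingleton (CohCx.HDU X m U) :=
  ⟨fun x y => (hom_to_shift_eq_zero_of_isGE X a m h x).trans
    (hom_to_shift_eq_zero_of_isGE X a m h y).symm⟩

/-- An object concentrated in degree `a` has hypercohomology `H^{m-a}` of its cohomology sheaf. -/
lemma subsingleton_HDU_of_heart (F : DerivedCategory (Sheaf J AddCommGrpCat.{u})) (a : ℤ)
    [F.IsGE a] [F.IsLE a] (U : C) (k : ℕ) (m : ℤ) (hm : a + k = m)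
    (h : Subsingleton (CohSite.HU (CohCx.HD F a) k U)) : Subsingleton (CohCx.HDU F m U) := by
  obtain ⟨G, ⟨e⟩⟩ := exists_iso_singleFunctor_obj_of_isGE_of_isLE F a
  let eG : G ≅ CohCx.HD F a :=
    ((singleFunctorCompHomologyFunctorIso _ a).app G).symm ≪≫ (H a).mapIso e.symm
  have h' : Subsingleton (Ext (CohCx.freeSheaf J U) G k) := ⟨fun x y => by
    have hxy : x.comp (Ext.mk₀ eG.hom) (add_zero k) = y.comp (Ext.mk₀ eG.hom) (add_zero k) :=
      @Subsingleton.elim _ h _ _
    have h1 := congrArg (fun z => Ext.comp z (Ext.mk₀ eG.inv) (add_zero k)) hxy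
    simpa using h1⟩
  have h'' := Ext.homEquiv.subsingleton_congr.1 h'
  let i : ((singleFunctor (Sheaf J AddCommGrpCat.{u}) 0).obj G)⟦(k : ℤ)⟧ ≅ F⟦m⟧ :=
    (shiftFunctor _ (k : ℤ)).mapIso
      (((singleFunctors (Sheaf J AddCommGrpCat.{u})).shiftIso a 0 a (add_zero a)).app G).symm ≪≫
    ((shiftFunctorAdd' (DerivedCategory (Sheaf J AddCommGrpCat.{u})) a (k : ℤ) m hm).app _).symm ≪≫
    (shiftFunctor _ m).mapIso e.symm
  exact ⟨fun x y => (cancel_mono i.inv).1 (@Subsingleton.elim _ h'' _ _)⟩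

/-- The fibre of `τ_{≥ a} E ⟶ τ_{≥ a+1} E`. -/
lemma exists_truncFibre (E : DerivedCategory (Sheaf J AddCommGrpCat.{u})) (a b : ℤ) (hb : a + 1 = b) :
    ∃ (F : DerivedCategory (Sheaf J AddCommGrpCat.{u})) (f : F ⟶ ((tS).truncGE a).obj E)
      (h : ((tS).truncGE b).obj E ⟶ F⟦(1 : ℤ)⟧),
      Triangle.mk f (((tS).natTransTruncGEOfLE a b (by omega)).app E) h ∈ distinguishedTriangles ∧
      F.IsGE a ∧ F.IsLE a ∧ Nonempty (CohCx.HD F a ≅ CohCx.HD E a) := by
  let g := ((tS).natTransTruncGEOfLE a b (by omega)).app E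
  obtain ⟨F, f, h, hT⟩ := distinguished_cocone_triangle₁ g
  have hX : (((tS).truncGE a).obj E).IsGE a := (tS).isGE_truncGE_obj ..
  have hX' : (((tS).truncGE b).obj E).IsGE b := (tS).isGE_truncGE_obj ..
  have hiso : ∀ i, b ≤ i → IsIso ((H i).map g) := fun i hi => by
    have e := congrArg (H i).map ((tS).π_natTransTruncGEOfLE_app a b (by omega) E)
    rw [Functor.map_comp] at e
    have := H9Misc.isIso_map_truncGEπ a i (by omega) E
    have := H9Misc.isIso_map_truncGEπ b i hi E
    exact IsIso.of_isIso_fac_left e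
  have hz : ∀ i, i < b → IsZero ((H i).obj (((tS).truncGE b).obj E)) := fun i hi =>
    isZero_of_isGE _ b i hi
  have hepi : ∀ i, a ≤ i → Epi ((H i).map g) := fun i hi => by
    by_cases h' : b ≤ i
    · have := hiso i h'; infer_instance
    · exact ⟨fun u v _ => (hz i (by omega)).eq_of_src u v⟩
  have hF : ∀ i, i ≠ a → IsZero ((H i).obj F) := fun i hi => by
    have hm : Mono ((H i).map f) := by
      refine (HomologySequence.mono_homologyMap_mor₁_iff _ hT (i - 1) i).2 ?_
      by_cases h' : i - 1 < b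
      · exact (hz (i - 1) h').eq_of_src _ _
      · have := hepi (i - 1) (by omega)
        exact (HomologySequence.epi_homologyMap_mor₂_iff _ hT (i - 1) i).1 this
    have hzero : (H i).map f = 0 := by
      by_cases h' : i < a
      · exact (isZero_of_isGE _ a i h').eq_of_tgt _ _
      · have := hiso i (by omega)
        refine (cancel_mono ((H i).map g)).1 ?_
        rw [zero_comp, ← Functor.map_comp]
        exact (congrArg (H i).map (comp_distTriang_mor_zero₁₂ _ hT)).trans (Functor.map_zero _ _ _)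
    exact @IsZero.of_mono_eq_zero _ _ _ _ _ _ hm hzero
  have hm : Mono ((H a).map f) :=
    (HomologySequence.mono_homologyMap_mor₁_iff _ hT (a - 1) a).2
      ((hz (a - 1) (by omega)).eq_of_src _ _)
  have he : Epi ((H a).map f) :=
    (HomologySequence.epi_homologyMap_mor₁_iff _ hT a).2 ((hz a (by omega)).eq_of_tgt _ _)
  have : IsIso ((H a).map f) := isIso_of_mono_of_epi _
  have := H9Misc.isIso_map_truncGEπ a a le_rfl E
  exact ⟨F, f, h, hT, (isGE_iff _ _).2 fun i hi => hF i (by omega),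
    (isLE_iff _ _).2 fun i hi => hF i (by omega),
    ⟨asIso ((H a).map f) ≪≫ (asIso ((H a).map (((tS).truncGEπ a).app E))).symm⟩⟩

section Step

variable (E : DerivedCategory (Sheaf J AddCommGrpCat.{u})) (a b : ℤ) (hb : a + 1 = b) (U : C)
include hb

/-- `H^m(U, τ_{≥a}) → H^m(U, τ_{≥a+1})` is injective if `H^{m-a}(U, H^a) = 0`. -/
lemma trunc_step_injective (k : ℕ) (m : ℤ) (hm : a + k = m)
    (h : Subsingleton (CohSite.HU (CohCx.HD E a) k U))
    (x : CohCx.HDU (((tS).truncGE a).obj E) m U)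
    (hx : x ≫ (((tS).natTransTruncGEOfLE a b (by omega)).app E)⟦m⟧' = 0) : x = 0 := by
  obtain ⟨F, f, c, hT, _, _, ⟨e⟩⟩ := exists_truncFibre E a b hb
  have hs : Subsingleton (CohCx.HDU F m U) :=
    subsingleton_HDU_of_heart F a U k m hm (subsingleton_of_ext_iso e.symm h)
  obtain ⟨y, rfl⟩ := exact₂_mk hT m x hx
  rw [show y = 0 from @Subsingleton.elim _ hs _ _, zero_comp]

/-- `H^{m-1}(U, τ_{≥a}) → H^{m-1}(U, τ_{≥a+1})` is surjective if `H^{m-a}(U, H^a) = 0`. -/
lemma trunc_step_surjective (k : ℕ) (m : ℤ) (hm : a + k = m)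
    (h : Subsingleton (CohSite.HU (CohCx.HD E a) k U))
    (x : CohCx.HDU (((tS).truncGE b).obj E) (m - 1) U) :
    ∃ y : CohCx.HDU (((tS).truncGE a).obj E) (m - 1) U,
      y ≫ (((tS).natTransTruncGEOfLE a b (by omega)).app E)⟦m - 1⟧' = x := by
  obtain ⟨F, f, c, hT, _, _, ⟨e⟩⟩ := exists_truncFibre E a b hb
  have hs : Subsingleton (CohCx.HDU F m U) :=
    subsingleton_HDU_of_heart F a U k m hm
      (subsingleton_of_ext_iso e.symm h)
  refine exact₃_shift _ hT (m - 1) x ?_
  exact (cancel_mono ((shiftFunctorAdd' _ (1 : ℤ) (m - 1) m (by omega)).inv.app F)).1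
    (@Subsingleton.elim _ hs _ _)

end Step

end Groth.Agent.DLim
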