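import Groth.Agent.SiteBase.HDUSheafify
import Mathlib.CategoryTheory.Triangulated.Pretriangulated
import Mathlib.CategoryTheory.Limits.Preserves.Shapes.Products

/-!
# Hypercohomology of derived limits: the long exact sequence
-/

set_option autoImplicit false

universe u v' u'

open CategoryTheory CategoryTheory.Limits Opposite Pretriangulated

namespace Groth.Agent.DLim

section Triangulated

variable {T : Type u'} [Category.{v'} T] [Preadditive T] [HasZeroObject T] [HasShift T ℤ]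
  [∀ n : ℤ, (shiftFunctor T n).Additive] [Pretriangulated T]

lemma exact₂_shift (Δ : Triangle T) (hΔ : Δ ∈ distinguishedTriangles) (m : ℤ) {S : T}
    (x : S ⟶ Δ.obj₂⟦m⟧) (hx : x ≫ Δ.mor₂⟦m⟧' = 0) :
    ∃ y : S ⟶ Δ.obj₁⟦m⟧, y ≫ Δ.mor₁⟦m⟧' = x := by
  obtain ⟨y, hy⟩ := Triangle.coyoneda_exact₂ _ (Triangle.shift_distinguished Δ hΔ m) x (by
    show x ≫ (m.negOnePow • Δ.mor₂⟦m⟧') = 0
    rw [Linear.comp_units_smul, hx, smul_zero])
  replace hy : x = y ≫ (m.negOnePow • Δ.mor₁⟦m⟧') := hy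
  refine ⟨m.negOnePow • (y : S ⟶ Δ.obj₁⟦m⟧), ?_⟩
  rw [hy]
  exact (Linear.units_smul_comp _ _ _).trans (Linear.comp_units_smul _ _ _).symm

lemma exact₃_shift (Δ : Triangle T) (hΔ : Δ ∈ distinguishedTriangles) (m : ℤ) {S : T}
    (x : S ⟶ Δ.obj₃⟦m⟧) (hx : x ≫ Δ.mor₃⟦m⟧' = 0) :
    ∃ y : S ⟶ Δ.obj₂⟦m⟧, y ≫ Δ.mor₂⟦m⟧' = x :=
  exact₂_shift Δ.rotate (rot_of_distTriang _ hΔ) m x hx

lemma eq_zero_of_surjective (Δ : Triangle T) (hΔ : Δ ∈ distinguishedTriangles) (m : ℤ) {S : T}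
    (y : S ⟶ Δ.obj₁⟦m⟧) (hy : y ≫ Δ.mor₁⟦m⟧' = 0)
    (hsurj : ∀ z : S ⟶ Δ.obj₃⟦m - 1⟧, ∃ w, w ≫ Δ.mor₂⟦m - 1⟧' = z) : y = 0 := by
  obtain ⟨z, hz⟩ := exact₂_shift Δ.invRotate (inv_rot_of_distTriang _ hΔ) m y hy
  let e := (shiftFunctorAdd' T (-1 : ℤ) m (m - 1) (by omega)).symm
  obtain ⟨w, hw⟩ := hsurj (z ≫ e.hom.app Δ.obj₃)
  have hz' : z = (w ≫ e.inv.app Δ.obj₂) ≫ (Δ.mor₂⟦(-1 : ℤ)⟧')⟦m⟧' := by
    have h := e.inv.naturality Δ.mor₂
    refine Eq.trans ?_ (Category.assoc _ _ _).symm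
    refine Eq.trans ?_ (congrArg (w ≫ ·) h)
    exact (((reassoc_of% hw) (e.inv.app Δ.obj₃)).trans
      ((congrArg (z ≫ ·) (e.hom_inv_id_app _)).trans (Category.comp_id z))).symm
  have h0 : (Δ.mor₂⟦(-1 : ℤ)⟧') ≫ Δ.invRotate.mor₁ = 0 := by
    show Δ.mor₂⟦(-1 : ℤ)⟧' ≫ (-Δ.mor₃⟦(-1 : ℤ)⟧' ≫ _) = 0
    refine (Preadditive.comp_neg _ _).trans (neg_eq_zero.2 ?_)
    rw [← Category.assoc, ← Functor.map_comp, comp_distTriang_mor_zero₂₃ _ hΔ, Functor.map_zero,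
      zero_comp]
  rw [← hz, hz']
  refine (Category.assoc _ _ _).trans ?_
  refine (congrArg _ ((Functor.map_comp _ _ _).symm.trans
    ((congrArg (shiftFunctor T m).map h0).trans (Functor.map_zero _ _ _)))).trans comp_zero

lemma exact₂_mk {A B D : T} {f : A ⟶ B} {g : B ⟶ D} {h : D ⟶ A⟦(1 : ℤ)⟧}
    (hΔ : Triangle.mk f g h ∈ distinguishedTriangles) (m : ℤ) {S : T}
    (x : S ⟶ B⟦m⟧) (hx : x ≫ g⟦m⟧' = 0) : ∃ y : S ⟶ A⟦m⟧, y ≫ f⟦m⟧' = x :=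
  exact₂_shift _ hΔ m x hx

lemma eq_zero_of_surjective_mk {A B D : T} {f : A ⟶ B} {g : B ⟶ D} {h : D ⟶ A⟦(1 : ℤ)⟧}
    (hΔ : Triangle.mk f g h ∈ distinguishedTriangles) (m : ℤ) {S : T}
    (y : S ⟶ A⟦m⟧) (hy : y ≫ f⟦m⟧' = 0)
    (hsurj : ∀ z : S ⟶ D⟦m - 1⟧, ∃ w, w ≫ g⟦m - 1⟧' = z) : y = 0 :=
  eq_zero_of_surjective _ hΔ m y hy hsurj

variable {K : ℕ → T} [HasProduct K]

lemma shiftPi_hom_ext (m : ℤ) {S : T} (x y : S ⟶ (∏ᶜ K)⟦m⟧)
    (h : ∀ n, x ≫ (Pi.π K n)⟦m⟧' = y ≫ (Pi.π K n)⟦m⟧') : x = y :=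
  Fan.IsLimit.hom_ext (isLimitFanMkObjOfIsLimit (shiftFunctor T m) K (Pi.π K) (productIsProduct K))
    _ _ h

lemma exists_shiftPi_lift (m : ℤ) {S : T} (x : ∀ n, S ⟶ (K n)⟦m⟧) :
    ∃ X : S ⟶ (∏ᶜ K)⟦m⟧, ∀ n, X ≫ (Pi.π K n)⟦m⟧' = x n :=
  ⟨Fan.IsLimit.lift
      (isLimitFanMkObjOfIsLimit (shiftFunctor T m) K (Pi.π K) (productIsProduct K)) x,
    fun n => Fan.IsLimit.fac _ x n⟩

variable (t : ∀ n, K (n + 1) ⟶ K n)

lemma shiftPi_oneSubShift (m : ℤ) {S : T} (X : S ⟶ (∏ᶜ K)⟦m⟧) (n : ℕ) :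
    (X ≫ (Pi.lift fun n => Pi.π K n - Pi.π K (n + 1) ≫ t n)⟦m⟧') ≫ (Pi.π K n)⟦m⟧' =
      X ≫ (Pi.π K n)⟦m⟧' - (X ≫ (Pi.π K (n + 1))⟦m⟧') ≫ (t n)⟦m⟧' := by
  rw [Category.assoc, ← Functor.map_comp, Pi.lift_π, Functor.map_sub, Functor.map_comp,
    Preadditive.comp_sub, Category.assoc]

variable {t} {L : T} {a : ∀ n, L ⟶ K n}

/-- Compatible families of classes lift to the derived limit. -/
theorem rlim_exists_lift (hL : CohCx.IsRlimVia K t L a) (m : ℤ) {S : T}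
    (x : ∀ n, S ⟶ (K n)⟦m⟧) (hx : ∀ n, x (n + 1) ≫ (t n)⟦m⟧' = x n) :
    ∃ y : S ⟶ L⟦m⟧, ∀ n, y ≫ (a n)⟦m⟧' = x n := by
  obtain ⟨c, hc⟩ := hL
  obtain ⟨X, hX⟩ := exists_shiftPi_lift m x
  obtain ⟨y, hy⟩ := exact₂_mk hc m X (shiftPi_hom_ext m _ _ fun n => by
    rw [zero_comp]
    refine (shiftPi_oneSubShift t m X n).trans ?_
    rw [hX, hX, hx, sub_self])
  refine ⟨y, fun n => ?_⟩
  rw [← hX n, ← hy]
  rw [Category.assoc, ← Functor.map_comp, Pi.lift_π]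

theorem rlim_comp_t (hL : CohCx.IsRlimVia K t L a) (n : ℕ) : a (n + 1) ≫ t n = a n := by
  obtain ⟨c, hc⟩ := hL
  have h0 : (Pi.lift a ≫ Pi.lift fun n => Pi.π K n - Pi.π K (n + 1) ≫ t n) = 0 :=
    comp_distTriang_mor_zero₁₂ _ hc
  have h := congrArg (· ≫ Pi.π K n) h0
  simp only [zero_comp, Category.assoc, Pi.lift_π, Preadditive.comp_sub, sub_eq_zero] at h
  simpa using h.symm

/-- A class killed by all projections vanishes if the previous system has no `lim¹`. -/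
theorem rlim_eq_zero (hL : CohCx.IsRlimVia K t L a) (m : ℤ) {S : T}
    (hone : ∀ b : ∀ n, S ⟶ (K n)⟦m - 1⟧, ∃ w : ∀ n, S ⟶ (K n)⟦m - 1⟧,
      ∀ n, w n - w (n + 1) ≫ (t n)⟦m - 1⟧' = b n)
    (y : S ⟶ L⟦m⟧) (hy : ∀ n, y ≫ (a n)⟦m⟧' = 0) : y = 0 := by
  obtain ⟨c, hc⟩ := hL
  refine eq_zero_of_surjective_mk hc m y (shiftPi_hom_ext m _ _ fun n => ?_) fun z => ?_
  · rw [Category.assoc, ← Functor.map_comp, Pi.lift_π, hy, zero_comp]
  · obtain ⟨w, hw⟩ := hone fun n => z ≫ (Pi.π K n)⟦m - 1⟧'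
    obtain ⟨W, hW⟩ := exists_shiftPi_lift (m - 1) w
    refine ⟨W, shiftPi_hom_ext (m - 1) _ _ fun n => (shiftPi_oneSubShift t (m - 1) W n).trans ?_⟩
    rw [hW, hW, hw]

end Triangulated

open Groth.Agent.SiteBase Groth.Agent.HDUSheafify

variable {C : Type u} [SmallCategory C] {J : GrothendieckTopology C}
  [HasDerivedCategory.{u} (Sheaf J AddCommGrpCat.{u})]

/-- `H^m(U, K) → H^0(U, H^m K)`, natural in `U`. -/
noncomputable def toHD (K : DerivedCategory (Sheaf J AddCommGrpCat.{u})) (m : ℤ) :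
    CohCx.HDUPresheaf K m ⟶ (CohCx.HD K m).obj :=
  toH0 (K⟦m⟧) ≫ ((sheafToPresheaf J AddCommGrpCat.{u}).mapIso
    (((DerivedCategory.homologyFunctor (Sheaf J AddCommGrpCat.{u}) 0).shiftIso m 0 m
      (by simp)).app K)).hom

instance isLocallyInjective_toHD (K : DerivedCategory (Sheaf J AddCommGrpCat.{u})) (m : ℤ) :
    Presheaf.IsLocallyInjective J (toHD K m) :=
  Presheaf.isLocallyInjective_comp ..

instance isLocallySurjective_toHD (K : DerivedCategory (Sheaf J AddCommGrpCat.{u})) (m : ℤ) :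
    Presheaf.IsLocallySurjective J (toHD K m) :=
  Presheaf.isLocallySurjective_comp ..

/-- The class in `H^0(U, H^m K)` of a class in `H^m(U, K)`. -/
noncomputable def cls (K : DerivedCategory (Sheaf J AddCommGrpCat.{u})) (m : ℤ) (U : C) :
    CohCx.HDU K m U →+ (CohCx.HD K m).obj.obj (op U) :=
  ((toHD K m).app (op U)).hom

lemma cls_res (K : DerivedCategory (Sheaf J AddCommGrpCat.{u})) (m : ℤ) {U V : C} (f : V ⟶ U)
    (x : CohCx.HDU K m U) :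
    cls K m V (CohCx.HDUres K m f x) = ((CohCx.HD K m).obj.map f.op).hom (cls K m U x) :=
  congrArg (fun t => t.hom x) ((toHD K m).naturality f.op)

lemma toH0_comp {M N : DerivedCategory (Sheaf J AddCommGrpCat.{u})} (g : M ⟶ N) (U : C)
    (φ : (DerivedCategory.singleFunctor _ 0).obj (CohCx.freeSheaf J U) ⟶ M) :
    ((toH0 N).app (op U)).hom (φ ≫ g) =
      (((DerivedCategory.homologyFunctor _ 0).map g).hom.app (op U)).hom
        (((toH0 M).app (op U)).hom φ) := by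
  show secEquiv J U _ (h0 (φ ≫ g)) = _
  rw [h0_comp, secEquiv_comp]
  rfl

lemma cls_apply (K : DerivedCategory (Sheaf J AddCommGrpCat.{u})) (m : ℤ) (U : C)
    (x : CohCx.HDU K m U) :
    cls K m U x = ((((DerivedCategory.homologyFunctor (Sheaf J AddCommGrpCat.{u}) 0).shiftIso m 0 m
      (by simp)).hom.app K).hom.app (op U)).hom (((toH0 (K⟦m⟧)).app (op U)).hom x) := rfl

lemma cls_comp {K K' : DerivedCategory (Sheaf J AddCommGrpCat.{u})} (g : K ⟶ K') (m : ℤ) (U : C)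
    (x : CohCx.HDU K m U) :
    cls K' m U (x ≫ g⟦m⟧') =
      (((DerivedCategory.homologyFunctor _ m).map g).hom.app (op U)).hom (cls K m U x) := by
  have h : (DerivedCategory.homologyFunctor _ 0).map (g⟦m⟧') ≫
      ((DerivedCategory.homologyFunctor _ 0).shiftIso m 0 m (by simp)).hom.app K' =
      ((DerivedCategory.homologyFunctor _ 0).shiftIso m 0 m (by simp)).hom.app K ≫
        (DerivedCategory.homologyFunctor _ m).map g :=
    ((DerivedCategory.homologyFunctor (Sheaf J AddCommGrpCat.{u}) 0).shiftIso m 0 m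
      (by simp)).hom.naturality g
  rw [cls_apply, cls_apply, toH0_comp]
  generalize ((toH0 (K⟦m⟧)).app (op U)).hom x = y
  exact congrArg (fun t => (t.hom.app (op U)).hom y) h

lemma exists_cover_cls_lift (K : DerivedCategory (Sheaf J AddCommGrpCat.{u})) (m : ℤ) (U : C)
    (s : (CohCx.HD K m).obj.obj (op U)) :
    ∃ R ∈ J U, ∀ (V : C) (f : V ⟶ U), R f →
      ∃ x, cls K m V x = ((CohCx.HD K m).obj.map f.op).hom s :=
  ⟨_, Presheaf.imageSieve_mem J (toHD K m) (U := op U) s, fun _ _ hf => hf⟩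

lemma res_eq_map (K : DerivedCategory (Sheaf J AddCommGrpCat.{u})) (m : ℤ) {U V : C} (f : V ⟶ U)
    (x : CohCx.HDU K m U) :
    CohCx.HDUres K m f x = ((CohCx.HDUPresheaf K m).map f.op).hom x := rfl

lemma equalizer_cover {P Q : Cᵒᵖ ⥤ AddCommGrpCat.{u}} (φ : P ⟶ Q) [Presheaf.IsLocallyInjective J φ]
    {U : C} (x : P.obj (op U)) (hx : (φ.app (op U)).hom x = 0) :
    ∃ R ∈ J U, ∀ (V : C) (f : V ⟶ U), R f → (P.map f.op).hom x = 0 :=
  ⟨_, Presheaf.equalizerSieve_mem J φ (X := op U) x 0 (hx.trans (map_zero _).symm),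
    fun _ _ hf => hf.trans (map_zero _)⟩

lemma exists_cover_res_eq_zero (K : DerivedCategory (Sheaf J AddCommGrpCat.{u})) (m : ℤ) (U : C)
    (x : CohCx.HDU K m U) (hx : cls K m U x = 0) :
    ∃ R ∈ J U, ∀ (V : C) (f : V ⟶ U), R f → CohCx.HDUres K m f x = 0 := by
  obtain ⟨R, hR, h⟩ := equalizer_cover (J := J) (toHD K m) (U := U) x hx
  exact ⟨R, hR, fun V f hf => (res_eq_map K m f x).trans (h V f hf)⟩

end Groth.Agent.DLim
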