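import Groth.Agent.SiteBase.DLim.Acyclic
import Mathlib.Topology.Sheaves.Stalks
import Mathlib.Topology.Category.TopCat.Opens

/-!
# Derived limits of complexes of sheaves on a space
-/

set_option autoImplicit false

universe u

open CategoryTheory CategoryTheory.Limits Opposite TopologicalSpace DerivedCategory

namespace Groth.Agent.DLim

variable {X : TopCat.{u}}

lemma isCoveredBy_of_isBasis {B : Set (Opens X)} (hB : Opens.IsBasis B) :
    IsCoveredBy (Opens.grothendieckTopology X) B := fun U => by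
  refine ⟨{W : Opens X // W ∈ B ∧ W ≤ U}, fun W => W.1, fun W => homOfLE W.2.2,
    fun x hx => ?_, fun W => W.2.1⟩
  obtain ⟨W, hW, hxW, hWU⟩ := Opens.isBasis_iff_nbhd.1 hB hx
  exact ⟨W, homOfLE hWU, Sieve.ofArrows_mk (fun W : {W : Opens X // W ∈ B ∧ W ≤ U} => W.1)
    (fun W => homOfLE W.2.2) ⟨W, hW, hWU⟩, hxW⟩

variable [HasDerivedCategory.{u} (CohTop.Ab X)]

local notation "H" => DerivedCategory.homologyFunctor (CohTop.Ab X)

/-- Injectivity of `H^m(L)_x ⟶ H^m(K_{nx})_x`. -/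
lemma stalk_injective {K : ℕ → DerivedCategory (CohTop.Ab X)} {t : ∀ n, K (n + 1) ⟶ K n}
    [HasProduct K] {L : DerivedCategory (CohTop.Ab X)} {a : ∀ n, L ⟶ K n}
    (hL : CohCx.IsRlimVia K t L a) (x : X) (m : ℤ) (nx : ℕ)
    (h : ∀ V : Opens X, x ∈ V → ∃ U : Opens X, x ∈ U ∧ U ≤ V ∧
      CohCx.LimOneIsZero (fun n => CohCx.HDU (K n) (m - 1) U)
        (fun n => Preadditive.rightComp _ ((shiftFunctor _ (m - 1)).map (t n))) ∧
      ∀ k : ℕ, Function.Injective
        (Preadditive.rightComp _ ((shiftFunctor _ m).map (CohCx.transition K t nx k)) :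
          CohCx.HDU (K (nx + k)) m U → CohCx.HDU (K nx) m U)) :
    Function.Injective ((TopCat.Presheaf.stalkFunctor AddCommGrpCat.{u} x).map
      ((H m).map (a nx)).hom) := by
  refine (injective_iff_map_eq_zero ((TopCat.Presheaf.stalkFunctor AddCommGrpCat.{u} x).map
      ((H m).map (a nx)).hom).hom).2 fun z hz => ?_
  obtain ⟨W, hxW, s, rfl⟩ := TopCat.Presheaf.exists_germ_eq (CohCx.HD L m).obj z
  have h0 : TopCat.Presheaf.germ (CohCx.HD (K nx) m).obj W x hxW
      ((((H m).map (a nx)).hom.app (op W)).hom s) =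
      TopCat.Presheaf.germ (CohCx.HD (K nx) m).obj W x hxW 0 := by
    rw [map_zero]
    exact (TopCat.Presheaf.stalkFunctor_map_germ_apply W x hxW _ s).symm.trans hz
  obtain ⟨W₁, hx₁, i₁, i₁', he⟩ := TopCat.Presheaf.germ_eq _ x hxW hxW _ _ h0
  obtain ⟨R, hR, hlift⟩ := exists_cover_cls_lift L m W₁ (((CohCx.HD L m).obj.map i₁.op).hom s)
  obtain ⟨W₂, i₂, hi₂, hx₂⟩ := hR x hx₁
  obtain ⟨y, hy⟩ := hlift W₂ i₂ hi₂
  have hy0 : cls (K nx) m W₂ (y ≫ (a nx)⟦m⟧') = 0 := by
    rw [cls_comp, hy]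
    refine (ConcreteCategory.congr_hom (((H m).map (a nx)).hom.naturality i₂.op) _).trans ?_
    refine (congrArg ((CohCx.HD (K nx) m).obj.map i₂.op).hom
      ((ConcreteCategory.congr_hom (((H m).map (a nx)).hom.naturality i₁.op) s).trans ?_)).trans
      (map_zero _)
    exact he.trans (map_zero _)
  obtain ⟨R', hR', hzero⟩ := exists_cover_res_eq_zero (K nx) m W₂ _ hy0
  obtain ⟨W₃, i₃, hi₃, hx₃⟩ := hR' x hx₂
  obtain ⟨U, hxU, hU, hone, hinj⟩ := h W₃ hx₃
  have hres : CohCx.HDUres L m (homOfLE hU ≫ i₃) y = 0 := by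
    refine eq_zero_of_proj hL U m nx hone hinj _ ?_
    exact (Category.assoc _ _ _).trans (hzero U (homOfLE hU ≫ i₃) (R'.downward_closed hi₃ _))
  have hs : ((CohCx.HD L m).obj.map ((homOfLE hU ≫ i₃) ≫ i₂ ≫ i₁).op).hom s = 0 := by
    rw [op_comp, Functor.map_comp, op_comp, Functor.map_comp]
    show ((CohCx.HD L m).obj.map (homOfLE hU ≫ i₃).op).hom
      (((CohCx.HD L m).obj.map i₂.op).hom (((CohCx.HD L m).obj.map i₁.op).hom s)) = 0
    rw [← hy, ← cls_res, hres, map_zero]
  rw [← TopCat.Presheaf.germ_res_apply (CohCx.HD L m).obj ((homOfLE hU ≫ i₃) ≫ i₂ ≫ i₁) x hxU s]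
  exact (congrArg _ hs).trans (map_zero _)

/-- `E` is the derived limit of its truncations if its cohomology sheaves have pointwise bounded
cohomology. -/
theorem isRlimVia_trunc_top (E : DerivedCategory (CohTop.Ab X))
    [HasProduct (CohCx.truncTower E)]
    (h : ∀ x : X, ∃ p : ℤ → ℤ, ∀ V : Opens X, x ∈ V → ∃ U : Opens X, x ∈ U ∧ U ≤ V ∧
      ∀ (m : ℤ) (k : ℕ), p m < k → Subsingleton (CohTop.HU (CohCx.HD E (m - k)) k U)) :
    CohCx.IsRlimVia (CohCx.truncTower E) (CohCx.truncTowerMap E) E (CohCx.toTruncTower E) := by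
  obtain ⟨L, a, e, hL, hea, hfin⟩ := exists_trunc_comparison E
  refine hfin fun m => ?_
  have : ∀ x : X, IsIso ((TopCat.Presheaf.stalkFunctor AddCommGrpCat.{u} x).map
      ((H m).map e).hom) := fun x => by
    obtain ⟨p, hp⟩ := h x
    let N : ℕ := (-m).toNat + (p m - m).toNat
    have := isIso_toTruncTower E N m (by omega)
    have hinj := stalk_injective hL x m N fun V hV => by
      obtain ⟨U, hxU, hU, hv⟩ := hp V hV
      exact ⟨U, hxU, hU, trunc_good E m (p m) N (by omega) U (hv m)⟩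
    let F := sheafToPresheaf (Opens.grothendieckTopology X) AddCommGrpCat.{u} ⋙
      TopCat.Presheaf.stalkFunctor AddCommGrpCat.{u} x
    have hπ : Function.Bijective (F.map ((H m).map (CohCx.toTruncTower E N))) :=
      ConcreteCategory.bijective_of_isIso _
    have hcomp : ∀ z, F.map ((H m).map (CohCx.toTruncTower E N)) z =
        F.map ((H m).map (a N)) (F.map ((H m).map e) z) := fun z => by
      rw [← hea, Functor.map_comp, Functor.map_comp]
      rfl
    refine (ConcreteCategory.isIso_iff_bijective (F.map ((H m).map e))).2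
      ⟨fun y z hyz => hπ.1 ?_, fun y => ?_⟩
    · rw [hcomp, hcomp, hyz]
    · obtain ⟨z, hz⟩ := hπ.2 (F.map ((H m).map (a N)) y)
      exact ⟨z, hinj ((hcomp z).symm.trans hz)⟩
  exact TopCat.Presheaf.isIso_of_stalkFunctor_map_iso _

end Groth.Agent.DLim
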