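import Groth.Agent.SiteBase.DLim.Rlim

/-!
# Hypercohomology on objects acyclic for the cohomology sheaves
-/

set_option autoImplicit false

universe u

open CategoryTheory CategoryTheory.Limits Opposite Pretriangulated Abelian DerivedCategory

namespace Groth.Agent.DLim

open Groth.Agent.SiteBase Groth.Agent.HDUSheafify

variable {C : Type u} [SmallCategory C] {J : GrothendieckTopology C}
  [HasDerivedCategory.{u} (Sheaf J AddCommGrpCat.{u})]

local notation "tS" => (DerivedCategory.TStructure.t (C := Sheaf J AddCommGrpCat))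
local notation "H" => DerivedCategory.homologyFunctor (Sheaf J AddCommGrpCat)

lemma h0_bijective_of_isGE (N : DerivedCategory (Sheaf J AddCommGrpCat.{u})) [N.IsGE 0]
    (F : Sheaf J AddCommGrpCat.{u}) :
    Function.Bijective (h0 : ((singleFunctor _ 0).obj F ⟶ N) → (F ⟶ (H 0).obj N)) := by
  constructor
  · intro φ ψ hφ
    refine sub_eq_zero.1 (H9Misc.zero_of_homologyMap 0 _ ?_)
    rw [Functor.map_sub, sub_eq_zero]
    exact (cancel_epi (unitIso.hom.app F)).1 hφ
  · intro g
    let N₀ := ((tS).truncLT 1).obj N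
    let ι : N₀ ⟶ N := ((tS).truncLTι 1).app N
    have : N₀.IsLE 0 := (tS).isLE_truncLT_obj ..
    have : IsIso ((H 0).map ι) := H9Misc.isIso_map_truncLTι 1 0 (by omega) N
    have : N₀.IsGE 0 := (isGE_iff _ _).2 fun i hi =>
      have := H9Misc.isIso_map_truncLTι 1 i (by omega) N
      (isZero_of_isGE N 0 i hi).of_iso (asIso ((H i).map ι))
    obtain ⟨G, ⟨e⟩⟩ := exists_iso_singleFunctor_obj_of_isGE_of_isLE N₀ 0
    let i₀ : G ≅ (H 0).obj N := unitIso.app G ≪≫ (H 0).mapIso e.symm ≪≫ asIso ((H 0).map ι)
    refine ⟨(singleFunctor _ 0).map (g ≫ i₀.inv) ≫ e.inv ≫ ι, ?_⟩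
    rw [h0_precomp, h0, Functor.map_comp]
    show (g ≫ i₀.inv) ≫ i₀.hom = g
    rw [Category.assoc, Iso.inv_hom_id, Category.comp_id]

/-- In the lowest degree hypercohomology is sections of the cohomology sheaf. -/
lemma cls_bijective_of_isGE (X : DerivedCategory (Sheaf J AddCommGrpCat.{u})) (a : ℤ) [X.IsGE a]
    (U : C) : Function.Bijective (cls X a U) := by
  have : (X⟦a⟧).IsGE 0 := (tS).isGE_shift X a a 0 (by omega)
  exact (sections_bijective_of_isIso
      (((H 0).shiftIso a 0 a (by simp)).hom.app X) U).comp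
    ((secEquiv J U _).bijective.comp (h0_bijective_of_isGE (X⟦a⟧) (CohCx.freeSheaf J U)))

lemma cls_bijective_truncGE (E : DerivedCategory (Sheaf J AddCommGrpCat.{u})) (U : C)
    (h : ∀ (p : ℕ) (q : ℤ), Subsingleton (CohSite.HU (CohCx.HD E q) (p + 1) U)) :
    ∀ (a m : ℤ), Function.Bijective (cls (((tS).truncGE a).obj E) m U) := by
  suffices key : ∀ (d : ℕ) (a m : ℤ), m - a ≤ d →
      Function.Bijective (cls (((tS).truncGE a).obj E) m U) from
    fun a m => key (m - a).toNat a m (by omega)
  have low : ∀ (a m : ℤ), m ≤ a → Function.Bijective (cls (((tS).truncGE a).obj E) m U) := by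
    intro a m hm
    have : (((tS).truncGE a).obj E).IsGE a := (tS).isGE_truncGE_obj ..
    rcases eq_or_lt_of_le hm with rfl | hlt
    · exact cls_bijective_of_isGE _ _ U
    · have := subsingleton_HDU_of_isGE (((tS).truncGE a).obj E) a m hlt U
      have h2 := subsingleton_sections_of_isZero
        (isZero_of_isGE (((tS).truncGE a).obj E) a m hlt) U
      exact ⟨fun x y _ => Subsingleton.elim _ _, fun y => ⟨0, @Subsingleton.elim _ h2 _ _⟩⟩
  intro d
  induction d with
  | zero => exact fun a m hm => low a m (by omega)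
  | succ d ih =>
    intro a m hm
    by_cases hle : m ≤ a
    · exact low a m hle
    let g := ((tS).natTransTruncGEOfLE a (a + 1) (by omega)).app E
    have hb : Function.Bijective (fun x : CohCx.HDU (((tS).truncGE a).obj E) m U => x ≫ g⟦m⟧') := by
      refine ⟨fun x y hxy => sub_eq_zero.1 ?_, fun x => ?_⟩
      · refine trunc_step_injective E a (a + 1) rfl U ((m - a).toNat - 1 + 1) m (by omega) (h _ _)
          (x - y) ?_
        rw [Preadditive.sub_comp, sub_eq_zero]
        exact hxy
      · have hs := trunc_step_surjective E a (a + 1) rfl U ((m - a).toNat + 1) (m + 1) (by omega)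
          (h _ _)
        rw [show m + 1 - 1 = m by omega] at hs
        exact hs x
    have hiso : IsIso ((H m).map g) := by
      have e := congrArg (H m).map ((tS).π_natTransTruncGEOfLE_app a (a + 1) (by omega) E)
      rw [Functor.map_comp] at e
      have := H9Misc.isIso_map_truncGEπ a m (by omega) E
      have := H9Misc.isIso_map_truncGEπ (a + 1) m (by omega) E
      exact IsIso.of_isIso_fac_left e
    refine (Function.Bijective.of_comp_iff' (sections_bijective_of_isIso ((H m).map g) U) _).1 ?_
    have he : ⇑(((H m).map g).hom.app (op U)).hom ∘ ⇑(cls (((tS).truncGE a).obj E) m U) =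
        ⇑(cls (((tS).truncGE (a + 1)).obj E) m U) ∘
          (fun x : CohCx.HDU (((tS).truncGE a).obj E) m U => x ≫ g⟦m⟧') :=
      funext fun x => (cls_comp g m U x).symm
    rw [he]
    exact (ih (a + 1) m (by omega)).comp hb

lemma hasProduct_nat (K : ℕ → DerivedCategory (Sheaf J AddCommGrpCat.{u})) : HasProduct K := by
  have : HasLimitsOfShape (Discrete ℕ) (DerivedCategory (Sheaf J AddCommGrpCat.{u})) :=
    TriCat.hasProductsOfShape_derivedCategory fun M => by
      obtain ⟨I, f, hI, hf, -, -⟩ := TriCat.exists_kInjective_resolution' M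
      exact ⟨I, f, hI, hf⟩
  infer_instance

/-- Hypercohomology on the members of a covering class acyclic for all cohomology sheaves. -/
theorem cls_bijective (E : DerivedCategory (Sheaf J AddCommGrpCat.{u})) {B : Set C}
    (hB : IsCoveredBy J B)
    (h : ∀ U ∈ B, ∀ (p : ℕ) (q : ℤ), Subsingleton (CohSite.HU (CohCx.HD E q) (p + 1) U))
    {U : C} (hU : U ∈ B) (m : ℤ) : Function.Bijective (cls E m U) := by
  have := hasProduct_nat (CohCx.truncTower E)
  have hL := isRlimVia_trunc E hB fun V _ => ⟨fun _ => 0, fun T hT => by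
    obtain ⟨ι, Y, f, hf, hcov, hY⟩ := hB.refine_cover V hT
    refine ⟨ι, Y, f, hf, hcov, fun i m k hk => ?_⟩
    obtain ⟨p, rfl⟩ : ∃ p, k = p + 1 := ⟨k - 1, by simp at hk; omega⟩
    exact h _ (hY i) p _⟩
  have hb : ∀ n : ℕ, ∀ j : ℤ, Function.Bijective (cls (CohCx.truncTower E n) j U) :=
    fun n j => cls_bijective_truncGE E U (h U hU) _ j
  have hnat : ∀ (n : ℕ) (x : CohCx.HDU E m U),
      cls (CohCx.truncTower E n) m U (x ≫ (CohCx.toTruncTower E n)⟦m⟧') =
        (((H m).map (CohCx.toTruncTower E n)).hom.app (op U)).hom (cls E m U x) :=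
    fun n x => cls_comp _ m U x
  constructor
  · refine (injective_iff_map_eq_zero _).2 fun x hx => rlim_eq_zero hL m (fun b => ?_) x fun n => ?_
    · refine limOne_of_eventually_surjective (-(m - 1)).toNat
        (fun n => CohCx.HDU (CohCx.truncTower E n) (m - 1) U)
        (fun n => Preadditive.rightComp _
          ((shiftFunctor _ (m - 1)).map (CohCx.truncTowerMap E n))) (fun n hn => ?_) b
      intro y
      have := isIso_toTruncTower E n (m - 1) (by omega)
      have := isIso_toTruncTower E (n + 1) (m - 1) (by omega)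
      have e := congrArg (H (m - 1)).map (toTruncTower_comp E n)
      rw [Functor.map_comp] at e
      have : IsIso ((H (m - 1)).map (CohCx.truncTowerMap E n)) := IsIso.of_isIso_fac_left e
      obtain ⟨s, hs⟩ := (sections_bijective_of_isIso
        ((H (m - 1)).map (CohCx.truncTowerMap E n)) U).2 (cls _ (m - 1) U y)
      obtain ⟨z, rfl⟩ := (hb (n + 1) (m - 1)).2 s
      exact ⟨z, (hb n (m - 1)).1 ((cls_comp _ _ U z).trans hs)⟩
    · exact (hb n m).1 ((hnat n x).trans (by rw [hx, map_zero, map_zero]))
  · intro s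
    choose x hx using fun n : ℕ =>
      (hb n m).2 ((((H m).map (CohCx.toTruncTower E n)).hom.app (op U)).hom s)
    obtain ⟨y, hy⟩ := rlim_exists_lift hL m x fun n => (hb n m).1 (by
      rw [cls_comp, hx, hx, ← toTruncTower_comp E n, Functor.map_comp]
      rfl)
    have := isIso_toTruncTower E (-m).toNat m (by omega)
    refine ⟨y, (sections_bijective_of_isIso ((H m).map (CohCx.toTruncTower E (-m).toNat)) U).1 ?_⟩
    rw [← hnat, hy, hx]

section DerivedLimit

variable {K : ℕ → DerivedCategory (Sheaf J AddCommGrpCat.{u})} {t : ∀ n, K (n + 1) ⟶ K n}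
  [HasProduct K] {L : DerivedCategory (Sheaf J AddCommGrpCat.{u})} {a : ∀ n, L ⟶ K n}

/-- The cohomology sheaves of a derived limit and the limit of the cohomology sheaves. -/
theorem nonempty_iso_limit (hL : CohCx.IsRlimVia K t L a) {B : Set C} (hB : IsCoveredBy J B)
    (h1 : ∀ U ∈ B, ∀ (p : ℕ) (q : ℤ) (n : ℕ),
      Subsingleton (CohSite.HU (CohCx.HD (K n) q) (p + 1) U))
    (h2 : ∀ U ∈ B, ∀ (q : ℤ), CohCx.LimOneIsZero (fun n => (CohCx.HD (K n) q).obj.obj (op U))
      (fun n => (((H q).map (t n)).hom.app (op U)).hom))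
    (q : ℤ) :
    Nonempty (CohCx.HD L q ≅
      limit (CohCx.opSequence (fun n => CohCx.HD (K n) q) (fun n => (H q).map (t n)))) := by
  have hD := fun n => Functor.ofOpSequence_map_homOfLE_succ
    (X := fun n => CohCx.HD (K n) q) (fun n => (H q).map (t n)) n
  let D := CohCx.opSequence (fun n => CohCx.HD (K n) q) (fun n => (H q).map (t n))
  let c : Cone D := Cone.mk (CohCx.HD L q)
    (NatTrans.ofOpSequence (fun n => (H q).map (a n)) (fun n => by
      exact (Category.id_comp _).trans (((congrArg (H q).map (rlim_comp_t hL n).symm).trans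
        ((H q).map_comp _ _)).trans
          (congrArg (_ ≫ ·) (hD n).symm))))
  let μ : CohCx.HD L q ⟶ limit D := limit.lift D c
  have hb : ∀ U ∈ B, ∀ n j, Function.Bijective (cls (K n) j U) := fun U hU n j =>
    cls_bijective (K n) hB (fun V hV p r => h1 V hV p r n) hU j
  let G : C → (Sheaf J AddCommGrpCat.{u} ⥤ AddCommGrpCat.{u}) := fun U =>
    sheafToPresheaf J AddCommGrpCat.{u} ⋙ (evaluation Cᵒᵖ AddCommGrpCat.{u}).obj (op U)
  have hπ : ∀ (U : C) (n : ℕ) (x : CohCx.HDU L q U),
      ((limit.π D (op n)).hom.app (op U)).hom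
          ((μ.hom.app (op U)).hom (cls L q U x)) =
        cls (K n) q U (x ≫ (a n)⟦q⟧') := fun U n x => by
    rw [cls_comp]
    exact congrArg (fun f => (f.hom.app (op U)).hom (cls L q U x)) (limit.lift_π c (op n))
  have key : ∀ U ∈ B, Function.Bijective (fun x => (μ.hom.app (op U)).hom (cls L q U x)) := by
    intro U hU
    constructor
    · intro x y hxy
      refine sub_eq_zero.1 (rlim_eq_zero hL q (fun b => ?_) _ fun n => ?_)
      · obtain ⟨w, hw⟩ := h2 U hU (q - 1) fun n => cls (K n) (q - 1) U (b n)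
        choose v hv using fun n => (hb U hU n (q - 1)).2 (w n)
        refine ⟨v, fun n => (hb U hU n (q - 1)).1 ?_⟩
        rw [map_sub, cls_comp, hv, hv]
        exact congrFun hw n
      · refine (hb U hU n q).1 ?_
        rw [Preadditive.sub_comp, map_sub, ← hπ, ← hπ, map_zero, sub_eq_zero]
        exact congrArg _ hxy
    · intro σ
      choose x hx using fun n : ℕ => (hb U hU n q).2 (((limit.π D (op n)).hom.app (op U)).hom σ)
      obtain ⟨y, hy⟩ := rlim_exists_lift hL q x fun n => (hb U hU n q).1 (by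
        rw [cls_comp, hx, hx]
        have e := limit.w D (homOfLE (Nat.le_succ n)).op
        rw [show D.map (homOfLE (Nat.le_succ n)).op = (H q).map (t n) from hD n] at e
        exact congrArg (fun f => (f.hom.app (op U)).hom σ) e)
      refine ⟨y, Concrete.isLimit_ext _
        (isLimitOfPreserves (G U) (limit.isLimit D)) _ _ fun n => ?_⟩
      exact (hπ U n.unop y).trans ((congrArg _ (hy n.unop)).trans (hx n.unop))
  have : Presheaf.IsLocallyInjective J (toHD L q ≫ μ.hom) := by
    constructor
    intro X x y hxy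
    obtain ⟨ι, Y, f, hf, hY⟩ := hB X.unop
    refine J.superset_covering ?_ hf
    rintro Z k ⟨Z', b, c, ⟨i⟩, rfl⟩
    refine Presheaf.equalizerSieve x y |>.downward_closed ?_ b
    refine (key _ (hY i)).1 ?_
    exact (ConcreteCategory.congr_hom ((toHD L q ≫ μ.hom).naturality (f i).op) x).trans
      ((congrArg ((limit D).obj.map (f i).op).hom hxy).trans
        (ConcreteCategory.congr_hom ((toHD L q ≫ μ.hom).naturality (f i).op) y).symm)
  have : Presheaf.IsLocallySurjective J (toHD L q ≫ μ.hom) := by
    constructor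
    intro U s
    obtain ⟨ι, Y, f, hf, hY⟩ := hB U
    refine J.superset_covering ?_ hf
    rintro Z k ⟨Z', b, c, ⟨i⟩, rfl⟩
    refine Presheaf.imageSieve (toHD L q ≫ μ.hom) s |>.downward_closed ?_ b
    exact (key _ (hY i)).2 _
  have : IsIso μ := (Sheaf.isLocallyBijective_iff_isIso μ).1
    ⟨Presheaf.isLocallyInjective_of_isLocallyInjective_of_isLocallySurjective J (toHD L q) μ.hom,
      Presheaf.isLocallySurjective_of_isLocallySurjective J (toHD L q) μ.hom⟩
  exact ⟨asIso μ⟩

end DerivedLimit

end Groth.Agent.DLim
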