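import Groth.Agent.SiteBase.DLim.Trunc
import Groth.Agent.TriCat.DerivedProducts
import Groth.Agent.TriCat.KInjRes
import Mathlib.CategoryTheory.Functor.OfSequence
import Mathlib.CategoryTheory.Limits.ConcreteCategory.Basic

/-!
# Derived limits of complexes of abelian sheaves
-/

set_option autoImplicit false

universe u

open CategoryTheory CategoryTheory.Limits Opposite Pretriangulated Abelian DerivedCategory

namespace Groth.Agent.DLim

open Groth.Agent.SiteBase

lemma limOne_of_eventually_surjective : ∀ (N : ℕ) (A : ℕ → Type u) [∀ n, AddCommGroup (A n)]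
    (t : ∀ n, A (n + 1) →+ A n), (∀ n, N ≤ n → Function.Surjective (t n)) →
    ∀ b : ∀ n, A n, ∃ w : ∀ n, A n, ∀ n, w n - t n (w (n + 1)) = b n := by
  intro N
  induction N with
  | zero =>
    intro A _ t ht b
    choose g hg using fun n => ht n (Nat.zero_le n)
    let w : ∀ n, A n := fun n => Nat.rec 0 (fun k wk => g k (wk - b k)) n
    exact ⟨w, fun n => by
      rw [show w (n + 1) = g n (w n - b n) from rfl, hg]
      exact sub_sub_cancel _ _⟩
  | succ N ih =>
    intro A _ t ht b
    obtain ⟨w', hw'⟩ := ih (fun n => A (n + 1)) (fun n => t (n + 1))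
      (fun n hn => ht (n + 1) (by omega)) (fun n => b (n + 1))
    let w : ∀ n, A n
      | 0 => b 0 + t 0 (w' 0)
      | n + 1 => w' n
    refine ⟨w, fun n => ?_⟩
    cases n with
    | zero => exact add_sub_cancel_right _ _
    | succ k => exact hw' k

variable {C : Type u} [SmallCategory C] {J : GrothendieckTopology C}

lemma sections_separated (G : Sheaf J AddCommGrpCat.{u}) {U : C} {R : Sieve U} (hR : R ∈ J U)
    (s s' : G.obj.obj (op U))
    (h : ∀ (V : C) (f : V ⟶ U), R f → (G.obj.map f.op).hom s = (G.obj.map f.op).hom s') : s = s' :=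
  ((((isSheaf_iff_isSheaf_of_type J _).1
    ((Presheaf.isSheaf_iff_isSheaf_forget J G.obj (forget AddCommGrpCat.{u})).1 G.2)) R hR)).isSeparatedFor.ext
    fun V f hf => h V f hf

variable (J) in
/-- Every object is covered by objects of `B`. -/
def IsCoveredBy (B : Set C) : Prop :=
  ∀ U : C, ∃ (ι : Type u) (Y : ι → C) (f : ∀ i, Y i ⟶ U),
    Sieve.ofArrows Y f ∈ J U ∧ ∀ i, Y i ∈ B

lemma IsCoveredBy.refine_cover {B : Set C} (hB : IsCoveredBy J B) (V : C) {T : Sieve V}
    (hT : T ∈ J V) :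
    ∃ (ι : Type u) (Y : ι → C) (f : ∀ i, Y i ⟶ V), (∀ i, T.arrows (f i)) ∧
      Sieve.ofArrows Y f ∈ J V ∧ ∀ i, Y i ∈ B := by
  choose ι Y f hf hY using hB
  refine ⟨Σ g : Σ W : C, {g : W ⟶ V // T g}, ι g.1, fun p => Y p.1.1 p.2,
    fun p => f p.1.1 p.2 ≫ p.1.2.1, fun p => T.downward_closed p.1.2.2 _, ?_, fun p => hY _ _⟩
  refine J.transitive hT _ fun W g hg => J.superset_covering ?_ (hf W)
  rintro Z k ⟨Z', a, b, ⟨i⟩, rfl⟩
  exact ⟨_, a, _, Presieve.ofArrows.mk (⟨⟨W, g, hg⟩, i⟩ : Σ g : Σ W : C, {g : W ⟶ V // T g}, ι g.1),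
    (Category.assoc _ _ _).symm⟩

lemma isIso_of_bijective_on {G G' : Sheaf J AddCommGrpCat.{u}} (g : G ⟶ G') {B : Set C}
    (hB : IsCoveredBy J B) (hb : ∀ U ∈ B, Function.Bijective (g.hom.app (op U)).hom) : IsIso g := by
  refine (Sheaf.isLocallyBijective_iff_isIso g).1 ⟨?_, ?_⟩
  · constructor
    intro X x y h
    obtain ⟨ι, Y, f, hf, hY⟩ := hB X.unop
    refine J.superset_covering ?_ hf
    rintro Z k ⟨Z', a, b, ⟨i⟩, rfl⟩
    refine Presheaf.equalizerSieve x y |>.downward_closed ?_ a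
    refine (hb _ (hY i)).1 ?_
    exact (ConcreteCategory.congr_hom (g.hom.naturality (f i).op) x).trans
      ((congrArg (G'.obj.map (f i).op).hom h).trans
        (ConcreteCategory.congr_hom (g.hom.naturality (f i).op) y).symm)
  · constructor
    intro U s
    obtain ⟨ι, Y, f, hf, hY⟩ := hB U
    refine J.superset_covering ?_ hf
    rintro Z k ⟨Z', a, b, ⟨i⟩, rfl⟩
    refine Presheaf.imageSieve g.hom s |>.downward_closed ?_ a
    exact (hb _ (hY i)).2 _

variable [HasDerivedCategory.{u} (Sheaf J AddCommGrpCat.{u})]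

local notation "tS" => (DerivedCategory.TStructure.t (C := Sheaf J AddCommGrpCat))
local notation "H" => DerivedCategory.homologyFunctor (Sheaf J AddCommGrpCat)

section Separation

variable {K : ℕ → DerivedCategory (Sheaf J AddCommGrpCat.{u})} {t : ∀ n, K (n + 1) ⟶ K n}
  [HasProduct K] {L : DerivedCategory (Sheaf J AddCommGrpCat.{u})} {a : ∀ n, L ⟶ K n}

lemma comp_transition (hL : CohCx.IsRlimVia K t L a) (n : ℕ) :
    ∀ k : ℕ, a (n + k) ≫ CohCx.transition K t n k = a n
  | 0 => Category.comp_id _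
  | k + 1 => by
    show a (n + k + 1) ≫ t (n + k) ≫ CohCx.transition K t n k = a n
    rw [← Category.assoc, rlim_comp_t hL, comp_transition hL n k]

/-- Injectivity of `H^m(U, L) ⟶ H^m(U, K_{nV})`. -/
lemma eq_zero_of_proj (hL : CohCx.IsRlimVia K t L a) (U : C) (m : ℤ) (nV : ℕ)
    (hone : CohCx.LimOneIsZero (fun n => CohCx.HDU (K n) (m - 1) U)
      (fun n => Preadditive.rightComp _ ((shiftFunctor _ (m - 1)).map (t n))))
    (hinj : ∀ k : ℕ, Function.Injective
      (Preadditive.rightComp _ ((shiftFunctor _ m).map (CohCx.transition K t nV k)) :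
        CohCx.HDU (K (nV + k)) m U → CohCx.HDU (K nV) m U))
    (x : CohCx.HDU L m U) (hx : x ≫ (a nV)⟦m⟧' = 0) : x = 0 := by
  refine rlim_eq_zero hL m (fun b => ?_) x fun n => ?_
  · obtain ⟨w, hw⟩ := hone b
    exact ⟨w, fun n => congrFun hw n⟩
  · have hbig : ∀ k, x ≫ (a (nV + k))⟦m⟧' = 0 := fun k => hinj k (by
      show (x ≫ (a (nV + k))⟦m⟧') ≫ (CohCx.transition K t nV k)⟦m⟧' =
        (0 : CohCx.HDU (K (nV + k)) m U) ≫ (CohCx.transition K t nV k)⟦m⟧'
      rw [Category.assoc, ← Functor.map_comp, comp_transition hL, hx, zero_comp])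
    have hn : x ≫ (a (n + nV))⟦m⟧' = 0 := by rw [Nat.add_comm]; exact hbig n
    rw [← comp_transition hL n nV, Functor.map_comp, ← Category.assoc, hn, zero_comp]

/-- Injectivity of `H^m(L)(V) ⟶ H^m(K_{nV})(V)`. -/
lemma sections_injective (hL : CohCx.IsRlimVia K t L a) (V : C) (m : ℤ) (nV : ℕ)
    (h : ∀ T ∈ J V, ∃ (ι : Type u) (Y : ι → C) (f : ∀ i, Y i ⟶ V), (∀ i, T.arrows (f i)) ∧
      Sieve.ofArrows Y f ∈ J V ∧ ∀ i,
        CohCx.LimOneIsZero (fun n => CohCx.HDU (K n) (m - 1) (Y i))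
          (fun n => Preadditive.rightComp _ ((shiftFunctor _ (m - 1)).map (t n))) ∧
        ∀ k : ℕ, Function.Injective
          (Preadditive.rightComp _ ((shiftFunctor _ m).map (CohCx.transition K t nV k)) :
            CohCx.HDU (K (nV + k)) m (Y i) → CohCx.HDU (K nV) m (Y i))) :
    Function.Injective (((H m).map (a nV)).hom.app (op V)) := by
  suffices key : ∀ s : (CohCx.HD L m).obj.obj (op V),
      (((H m).map (a nV)).hom.app (op V)).hom s = 0 → s = 0 from
    (injective_iff_map_eq_zero (((H m).map (a nV)).hom.app (op V)).hom).2 key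
  intro s hs
  obtain ⟨R, hR, hlift⟩ := exists_cover_cls_lift L m V s
  choose x hx using hlift
  have hloc : ∀ (W : C) (f : W ⟶ V) (hf : R f), ∃ R' ∈ J W, ∀ (Z : C) (g : Z ⟶ W), R' g →
      CohCx.HDUres (K nV) m g (x W f hf ≫ (a nV)⟦m⟧') = 0 := fun W f hf => by
    refine exists_cover_res_eq_zero (K nV) m W _ ?_
    rw [cls_comp, hx]
    exact (ConcreteCategory.congr_hom (((H m).map (a nV)).hom.naturality f.op) s).trans
      ((congrArg ((CohCx.HD (K nV) m).obj.map f.op).hom hs).trans (map_zero _))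
  choose R' hR' hzero using hloc
  obtain ⟨ι, Y, f, hT, hcov, hprop⟩ := h (Sieve.bind R.arrows fun W g hg => R' W g hg)
    (J.bind_covering hR fun W g hg => hR' W g hg)
  refine sections_separated _ hcov s 0 ?_
  rintro Z k ⟨Z', b, c, ⟨i⟩, rfl⟩
  obtain ⟨W, g, q, hq, hg, e⟩ := hT i
  have hy : CohCx.HDUres L m g (x W q hq) = 0 := by
    refine eq_zero_of_proj hL _ m nV (hprop i).1 (hprop i).2 _ ?_
    exact (Category.assoc _ _ _).trans (hzero W q hq _ g hg)
  have hfi : ((CohCx.HD L m).obj.map (f i).op).hom s = 0 := by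
    rw [← e, op_comp, Functor.map_comp]
    show ((CohCx.HD L m).obj.map g.op).hom (((CohCx.HD L m).obj.map q.op).hom s) = 0
    rw [← hx W q hq, ← cls_res, hy, map_zero]
  rw [op_comp, Functor.map_comp]
  show ((CohCx.HD L m).obj.map b.op).hom (((CohCx.HD L m).obj.map (f i).op).hom s) = _
  rw [hfi, map_zero, map_zero]

end Separation

section Truncations

variable (E : DerivedCategory (Sheaf J AddCommGrpCat.{u}))

lemma isIso_toTruncTower (n : ℕ) (i : ℤ) (hi : -(n : ℤ) ≤ i) :
    IsIso ((H i).map (CohCx.toTruncTower E n)) :=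
  H9Misc.isIso_map_truncGEπ (-(n : ℤ)) i hi E

lemma toTruncTower_comp (n : ℕ) :
    CohCx.toTruncTower E (n + 1) ≫ CohCx.truncTowerMap E n = CohCx.toTruncTower E n :=
  (tS).π_natTransTruncGEOfLE_app _ _ (by omega) E

lemma truncTower_map_injective (n k : ℕ) (m : ℤ) (U : C) (hk : m + (n + 1 : ℕ) = k)
    (h : Subsingleton (CohSite.HU (CohCx.HD E (m - k)) k U)) :
    Function.Injective (Preadditive.rightComp _ ((shiftFunctor _ m).map (CohCx.truncTowerMap E n)) :
      CohCx.HDU (CohCx.truncTower E (n + 1)) m U → CohCx.HDU (CohCx.truncTower E n) m U) :=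
  (injective_iff_map_eq_zero (Preadditive.rightComp _
      ((shiftFunctor _ m).map (CohCx.truncTowerMap E n)))).2 fun x hx =>
    trunc_step_injective E (-((n + 1 : ℕ) : ℤ)) (-(n : ℤ)) (by omega) U k m (by omega)
      (by rwa [show m - k = -((n + 1 : ℕ) : ℤ) by omega] at h) x hx

lemma truncTower_map_surjective (n k : ℕ) (m : ℤ) (U : C) (hk : m + (n + 1 : ℕ) = k)
    (h : Subsingleton (CohSite.HU (CohCx.HD E (m - k)) k U)) :
    Function.Surjective (Preadditive.rightComp _
        ((shiftFunctor _ (m - 1)).map (CohCx.truncTowerMap E n)) :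
      CohCx.HDU (CohCx.truncTower E (n + 1)) (m - 1) U →
        CohCx.HDU (CohCx.truncTower E n) (m - 1) U) := fun x =>
  trunc_step_surjective E (-((n + 1 : ℕ) : ℤ)) (-(n : ℤ)) (by omega) U k m (by omega)
    (by rwa [show m - k = -((n + 1 : ℕ) : ℤ) by omega] at h) x

/-- The truncation tower has no `lim¹` and injective transitions in a range of vanishing. -/
lemma trunc_good (m p : ℤ) (N : ℕ) (hN : p < m + N + 1 ∧ 0 ≤ m + N + 1) (U : C)
    (h : ∀ k : ℕ, p < k → Subsingleton (CohSite.HU (CohCx.HD E (m - k)) k U)) :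
    CohCx.LimOneIsZero (fun n => CohCx.HDU (CohCx.truncTower E n) (m - 1) U)
        (fun n => Preadditive.rightComp _
          ((shiftFunctor _ (m - 1)).map (CohCx.truncTowerMap E n))) ∧
      ∀ k : ℕ, Function.Injective
        (Preadditive.rightComp _ ((shiftFunctor _ m).map
            (CohCx.transition (CohCx.truncTower E) (CohCx.truncTowerMap E) N k)) :
          CohCx.HDU (CohCx.truncTower E (N + k)) m U → CohCx.HDU (CohCx.truncTower E N) m U) := by
  let K := CohCx.truncTower E
  let t := CohCx.truncTowerMap E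
  refine ⟨fun b => ?_, fun k => ?_⟩
  · obtain ⟨w, hw⟩ := limOne_of_eventually_surjective N (fun n => CohCx.HDU (K n) (m - 1) U)
      (fun n => Preadditive.rightComp _ ((shiftFunctor _ (m - 1)).map (t n)))
      (fun n hn => truncTower_map_surjective E n (m + (n + 1 : ℕ)).toNat m U (by omega)
        (h _ (by omega))) b
    exact ⟨w, funext hw⟩
  · induction k with
    | zero =>
      intro x y hxy
      have h1 : (shiftFunctor _ m).map (CohCx.transition K t N 0) = 𝟙 _ :=
        CategoryTheory.Functor.map_id _ _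
      have h2 : x ≫ (shiftFunctor _ m).map (CohCx.transition K t N 0) =
          y ≫ (shiftFunctor _ m).map (CohCx.transition K t N 0) := hxy
      rw [h1, Category.comp_id, Category.comp_id] at h2
      exact h2
    | succ k ih =>
      intro x y hxy
      refine truncTower_map_injective E (N + k) (m + (N + k + 1 : ℕ)).toNat m U (by omega)
        (h _ (by omega)) (ih ?_)
      have h2 : x ≫ (shiftFunctor _ m).map (t (N + k) ≫ CohCx.transition K t N k) =
          y ≫ (shiftFunctor _ m).map (t (N + k) ≫ CohCx.transition K t N k) := hxy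
      rw [Functor.map_comp, ← Category.assoc, ← Category.assoc] at h2
      exact h2

/-- The comparison of `E` with the derived limit of its truncations. -/
lemma exists_trunc_comparison [HasProduct (CohCx.truncTower E)] :
    ∃ (L : DerivedCategory (Sheaf J AddCommGrpCat.{u})) (a : ∀ n, L ⟶ CohCx.truncTower E n)
      (e : E ⟶ L),
      CohCx.IsRlimVia (CohCx.truncTower E) (CohCx.truncTowerMap E) L a ∧
      (∀ n, e ≫ a n = CohCx.toTruncTower E n) ∧
      ((∀ m : ℤ, IsIso ((H m).map e)) →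
        CohCx.IsRlimVia (CohCx.truncTower E) (CohCx.truncTowerMap E) E (CohCx.toTruncTower E)) := by
  let K := CohCx.truncTower E
  let t := CohCx.truncTowerMap E
  let d : ∏ᶜ K ⟶ ∏ᶜ K := Pi.lift fun n => Pi.π K n - Pi.π K (n + 1) ≫ t n
  obtain ⟨L, p, δ, hT⟩ := distinguished_cocone_triangle₁ d
  let a : ∀ n, L ⟶ K n := fun n => p ≫ Pi.π K n
  have hp : Pi.lift a = p := Pi.hom_ext _ _ fun n => Pi.lift_π _ _
  obtain ⟨e, he⟩ : ∃ e : E ⟶ L, Pi.lift (CohCx.toTruncTower E) = e ≫ p :=
    Triangle.coyoneda_exact₂ _ hT (Pi.lift (CohCx.toTruncTower E)) (Pi.hom_ext _ _ fun n => by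
      show (Pi.lift (CohCx.toTruncTower E) ≫ d) ≫ Pi.π K n = 0 ≫ Pi.π K n
      have := toTruncTower_comp E n
      simp only [d, Category.assoc, Pi.lift_π, Preadditive.comp_sub, zero_comp]
      erw [Pi.lift_π, Pi.lift_π_assoc]
      rw [sub_eq_zero]
      exact this.symm)
  refine ⟨L, a, e, ⟨δ, by rw [hp]; exact hT⟩,
    fun n => by rw [← Category.assoc, ← he, Pi.lift_π], fun hiso => ?_⟩
  have : IsIso e := (DerivedCategory.isIso_iff _ e).2 hiso
  let eI : E ≅ L := asIso e
  refine ⟨δ ≫ eI.inv⟦(1 : ℤ)⟧', isomorphic_distinguished _ hT _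
    (Triangle.isoMk _ _ eI (Iso.refl _) (Iso.refl _) ?_ ?_ ?_)⟩
  · exact (Category.comp_id _).trans he
  · exact (Category.comp_id _).trans (Category.id_comp _).symm
  · refine (Category.assoc _ _ _).trans (Eq.trans ?_ (Category.id_comp δ).symm)
    refine (congrArg (δ ≫ ·) ?_).trans (Category.comp_id δ)
    exact (Functor.map_comp _ _ _).symm.trans
      ((congrArg _ eI.inv_hom_id).trans (CategoryTheory.Functor.map_id _ _))

/-- `E` is the derived limit of its truncations if its cohomology sheaves have locally bounded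
cohomology. -/
theorem isRlimVia_trunc [HasProduct (CohCx.truncTower E)] {B : Set C} (hB : IsCoveredBy J B)
    (h : ∀ V ∈ B, ∃ p : ℤ → ℤ, ∀ T ∈ J V, ∃ (ι : Type u) (Y : ι → C) (f : ∀ i, Y i ⟶ V),
      (∀ i, T.arrows (f i)) ∧ Sieve.ofArrows Y f ∈ J V ∧
      ∀ (i : ι) (m : ℤ) (k : ℕ), p m < k → Subsingleton (CohSite.HU (CohCx.HD E (m - k)) k (Y i))) :
    CohCx.IsRlimVia (CohCx.truncTower E) (CohCx.truncTowerMap E) E (CohCx.toTruncTower E) := by
  obtain ⟨L, a, e, hL, hea, hfin⟩ := exists_trunc_comparison E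
  refine hfin fun m => isIso_of_bijective_on _ hB fun V hV => ?_
  obtain ⟨p, hp⟩ := h V hV
  let N : ℕ := (-m).toNat + (p m - m).toNat
  have := isIso_toTruncTower E N m (by omega)
  have hinj : Function.Injective (((H m).map (a N)).hom.app (op V)).hom := by
    refine sections_injective hL V m N fun T hT => ?_
    obtain ⟨ι, Y, f, hf, hcov, hv⟩ := hp T hT
    exact ⟨ι, Y, f, hf, hcov, fun i => trunc_good E m (p m) N (by omega) (Y i) (hv i m)⟩
  have hπ := sections_bijective_of_isIso ((H m).map (CohCx.toTruncTower E N)) V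
  have hcomp : ∀ x, (((H m).map (CohCx.toTruncTower E N)).hom.app (op V)).hom x =
      (((H m).map (a N)).hom.app (op V)).hom ((((H m).map e).hom.app (op V)).hom x) := fun x => by
    rw [← hea, Functor.map_comp]
    rfl
  refine ⟨fun x y hxy => hπ.1 ?_, fun y => ?_⟩
  · rw [hcomp, hcomp, hxy]
  · obtain ⟨x, hx⟩ := hπ.2 ((((H m).map (a N)).hom.app (op V)).hom y)
    exact ⟨x, hinj ((hcomp x).symm.trans hx)⟩

end Truncations

end Groth.Agent.DLim
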